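import Mathlib.GroupTheory.Sylow
import Mathlib.Tactic.Group
import Cfsg.Prelude.Def_EvenType
/-!
Basic facts on subgroups containing a 1-generated p-core (strongly p-embedded subgroups).
-/
set_option autoImplicit false
open Cfsg

namespace CfsgLib.Even

variable {G : Type*} [Group G] [Finite G] {p : ℕ} [hp : Fact p.Prime]

/-- A nontrivial p-group does not have p-rank zero. -/
theorem not_pRankLE_zero_of_ne_bot {Q : Subgroup G} (hQ : IsPGroup p Q) (hne : Q ≠ ⊥) :
    ¬ PRankLE p 0 Q := by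
  intro h
  haveI : Nontrivial Q := (Subgroup.nontrivial_iff_ne_bot Q).mpr hne
  obtain ⟨n, hcard⟩ := IsPGroup.iff_card.mp hQ
  have hn : n ≠ 0 := by
    intro hn
    rw [hn, pow_zero] at hcard
    exact hne (Subgroup.card_eq_one.mp hcard)
  obtain ⟨x, hx⟩ := exists_prime_orderOf_dvd_card' (G := Q) p (by
    rw [hcard]; exact dvd_pow_self p hn)
  have h1 := h (Subgroup.zpowers x) inferInstance (by
    intro a ha
    obtain ⟨k, rfl⟩ := Subgroup.mem_zpowers_iff.mp ha
    rw [← zpow_natCast, zpow_comm, zpow_natCast, ← hx, pow_orderOf_eq_one, one_zpow])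
  rw [Nat.card_zpowers, hx, pow_zero] at h1
  exact absurd h1 (by have := hp.out.two_le; omega)

theorem normalizer_le_of_le_core {P M Q : Subgroup G} (hP : IsPGroup p P)
    (hM : kGeneratedCore p 1 P ≤ M) (hQP : Q ≤ P) (hne : Q ≠ ⊥) :
    Subgroup.normalizer (Q : Set G) ≤ M := by
  refine le_trans ?_ hM
  exact le_iSup (fun R : {R : Subgroup G // R ≤ P ∧ ¬ PRankLE p (1 - 1) R} =>
    Subgroup.normalizer ((R : Subgroup G) : Set G))
    ⟨Q, hQP, by simpa using not_pRankLE_zero_of_ne_bot (hP.to_le hQP) hne⟩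

/-- In a strongly p-embedded subgroup `M`, every nontrivial p-subgroup of `M` has normalizer in `M`. -/
theorem normalizer_le_of_stronglyPEmbedded {M : Subgroup G} (hM : IsStronglyPEmbedded p M)
    {Q : Subgroup G} (hQ : IsPGroup p Q) (hQM : Q ≤ M) (hne : Q ≠ ⊥) :
    Subgroup.normalizer (Q : Set G) ≤ M := by
  obtain ⟨hdvd, -, P, hP⟩ := hM
  have hPne : (P : Subgroup G) ≠ ⊥ := P.ne_bot_of_dvd_card hdvd
  have hPM : (P : Subgroup G) ≤ M :=
    Subgroup.le_normalizer.trans (normalizer_le_of_le_core P.2 hP le_rfl hPne)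
  obtain ⟨R, hR⟩ := (hQ.comap_of_injective M.subtype Subtype.coe_injective).exists_le_sylow
  obtain ⟨m, hm⟩ := MulAction.exists_smul_eq M R (P.subtype hPM)
  have hconj : ∀ q ∈ Q, (m : G) * q * (m : G)⁻¹ ∈ (P : Subgroup G) := by
    intro q hq
    have h1 : (MulAut.conj m) ⟨q, hQM hq⟩ ∈ (m • R : Sylow p M) :=
      Subgroup.smul_mem_pointwise_smul (⟨q, hQM hq⟩ : M) (MulAut.conj m) (R : Subgroup M)
        (hR hq)
    rw [hm] at h1
    exact h1
  intro x hx
  have hQ'P : Q.map (MulAut.conj (m : G)).toMonoidHom ≤ (P : Subgroup G) := by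
    rintro y ⟨q, hq, rfl⟩
    exact hconj q hq
  have hQ'ne : Q.map (MulAut.conj (m : G)).toMonoidHom ≠ ⊥ := by
    intro h
    exact hne ((Subgroup.map_eq_bot_iff_of_injective _ (MulEquiv.injective _)).mp h)
  have key := normalizer_le_of_le_core P.2 hP hQ'P hQ'ne
  have hx' : (m : G) * x * (m : G)⁻¹ ∈ Subgroup.normalizer
      ((Q.map (MulAut.conj (m : G)).toMonoidHom : Subgroup G) : Set G) := by
    rw [← Subgroup.map_equiv_normalizer_eq Q (MulAut.conj (m : G))]
    exact ⟨x, hx, rfl⟩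
  have h2 := key hx'
  have : x = (m : G)⁻¹ * ((m : G) * x * (m : G)⁻¹) * (m : G) := by group
  rw [this]
  exact M.mul_mem (M.mul_mem (M.inv_mem m.2) h2) m.2

end CfsgLib.Even
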